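import Cfsg.Agent.H510.OA.Chain
import Cfsg.Agent.H892.EP.Rows
import Cfsg.Agent.AutOrth.Main

/-!
# [PU-O] of S4929: `χ(1) ≡ dim χ^U (mod 2)` for the orthogonal groups (helper485)

`U ∈ Syl_r (E Q)` fixes a flag `⟨x_0⟩ < ⟨x_0, x_1⟩ < ...` of totally singular subspaces of dimensions `1, ..., k`,
`2 k + 1 ≤ dim V ≤ 2 k + 2`, and is its unipotent radical. Let `y_i` be partners of the `x_i`. The 2-group `A` of all
`a ∈ E Q` which are scalars `± 1` on the planes `⟨x_i, y_i⟩` and trivial on the complement normalises `U`; it contains the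
`z_ij` (`-1` exactly on the planes `i` and `j`), so `C_U(A) = 1` for `k ≥ 3`.
-/

set_option autoImplicit false
set_option linter.unusedSectionVars false

namespace Cfsg.Agent.H485.EP

open QuadraticMap Module Cfsg.Agent.LieClassical.OrthCore Cfsg.Agent.LieClassical.OrthTrans
open Cfsg.Agent.H510.OA Cfsg.Agent.H951 Cfsg.Agent.H862.T5.OBase

variable {F V : Type*} [Field F] [AddCommGroup V] [Module F V] {Q : QuadraticForm F V}

/-- hyperbolic systems -/
structure Hs (Q : QuadraticForm F V) (k : ℕ) (x y : Fin k → V) : Prop where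
  qx : ∀ i, Q (x i) = 0
  qy : ∀ i, Q (y i) = 0
  xx : ∀ i j, polar Q (x i) (x j) = 0
  yy : ∀ i j, polar Q (y i) (y j) = 0
  xy : ∀ i j, polar Q (x i) (y j) = if i = j then 1 else 0

variable {k : ℕ} {x y : Fin k → V}

/-- the lower span -/
def Wl (F : Type*) {V : Type*} [Field F] [AddCommGroup V] [Module F V] {k : ℕ} (x : Fin k → V) (i : ℕ) :
    Submodule F V := Submodule.span F (x '' {j | (j : ℕ) < i})

theorem Wl_mono {i j : ℕ} (h : i ≤ j) : Wl F x i ≤ Wl F x j :=
  Submodule.span_mono (Set.image_mono fun _ hl => lt_of_lt_of_le hl h)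

theorem mem_Wl {i : ℕ} {j : Fin k} (h : (j : ℕ) < i) : x j ∈ Wl F x i :=
  Submodule.subset_span ⟨j, h, rfl⟩

/-- projection to the complement of the system -/
def prj (Q : QuadraticForm F V) (x y : Fin k → V) (v : V) : V :=
  v - ∑ i, (polar Q (y i) v • x i + polar Q (x i) v • y i)

theorem Hs.polar_x_sum (h : Hs Q k x y) (c d : Fin k → F) (j : Fin k) :
    polar Q (x j) (∑ i, (c i • x i + d i • y i)) = d j := by
  have h1 : polar Q (x j) (∑ i, (c i • x i + d i • y i)) = polarBilin Q (x j) (∑ i, (c i • x i + d i • y i)) := rfl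
  rw [h1, map_sum, Finset.sum_eq_single j]
  · rw [map_add, map_smul, map_smul, polarBilin_apply_apply, polarBilin_apply_apply, h.xx, h.xy, if_pos rfl, smul_zero,
      zero_add, smul_eq_mul, mul_one]
  · intro i _ hij
    rw [map_add, map_smul, map_smul, polarBilin_apply_apply, polarBilin_apply_apply, h.xx, h.xy, if_neg (Ne.symm hij),
      smul_zero, smul_zero, zero_add]
  · intro hj; exact absurd (Finset.mem_univ j) hj

theorem Hs.polar_y_sum (h : Hs Q k x y) (c d : Fin k → F) (j : Fin k) :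
    polar Q (y j) (∑ i, (c i • x i + d i • y i)) = c j := by
  have h1 : polar Q (y j) (∑ i, (c i • x i + d i • y i)) = polarBilin Q (y j) (∑ i, (c i • x i + d i • y i)) := rfl
  rw [h1, map_sum, Finset.sum_eq_single j]
  · rw [map_add, map_smul, map_smul, polarBilin_apply_apply, polarBilin_apply_apply, h.yy, polar_comm Q (y j) (x j), h.xy,
      if_pos rfl, smul_zero, add_zero, smul_eq_mul, mul_one]
  · intro i _ hij
    rw [map_add, map_smul, map_smul, polarBilin_apply_apply, polarBilin_apply_apply, h.yy, polar_comm Q (y j) (x i), h.xy,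
      if_neg hij, smul_zero, smul_zero, zero_add]
  · intro hj; exact absurd (Finset.mem_univ j) hj

theorem Hs.polar_x_prj (h : Hs Q k x y) (v : V) (j : Fin k) : polar Q (x j) (prj Q x y v) = 0 := by
  rw [prj, polar_sub_right, h.polar_x_sum, sub_self]

theorem Hs.polar_y_prj (h : Hs Q k x y) (v : V) (j : Fin k) : polar Q (y j) (prj Q x y v) = 0 := by
  rw [prj, polar_sub_right, h.polar_y_sum, sub_self]

/-- extending a hyperbolic system -/
theorem Hs.snoc (h : Hs Q k x y) {a b : V} (ha : Q a = 0) (hb : Q b = 0) (hab : polar Q a b = 1)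
    (hxa : ∀ i, polar Q (x i) a = 0) (hya : ∀ i, polar Q (y i) a = 0) (hxb : ∀ i, polar Q (x i) b = 0)
    (hyb : ∀ i, polar Q (y i) b = 0) : Hs Q (k + 1) (Fin.snoc x a) (Fin.snoc y b) := by
  have haa : polar Q a a = 0 := by rw [polar_self, ha, smul_zero]
  have hbb : polar Q b b = 0 := by rw [polar_self, hb, smul_zero]
  refine ⟨fun i => ?_, fun i => ?_, fun i j => ?_, fun i j => ?_, fun i j => ?_⟩
  · refine Fin.lastCases ?_ (fun i => ?_) i
    · rw [Fin.snoc_last, ha]
    · rw [Fin.snoc_castSucc, h.qx]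
  · refine Fin.lastCases ?_ (fun i => ?_) i
    · rw [Fin.snoc_last, hb]
    · rw [Fin.snoc_castSucc, h.qy]
  · refine Fin.lastCases ?_ (fun i => ?_) i <;> refine Fin.lastCases ?_ (fun j => ?_) j
    · rw [Fin.snoc_last, haa]
    · rw [Fin.snoc_last, Fin.snoc_castSucc, polar_comm, hxa]
    · rw [Fin.snoc_last, Fin.snoc_castSucc, hxa]
    · rw [Fin.snoc_castSucc, Fin.snoc_castSucc, h.xx]
  · refine Fin.lastCases ?_ (fun i => ?_) i <;> refine Fin.lastCases ?_ (fun j => ?_) j
    · rw [Fin.snoc_last, hbb]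
    · rw [Fin.snoc_last, Fin.snoc_castSucc, polar_comm, hyb]
    · rw [Fin.snoc_last, Fin.snoc_castSucc, hyb]
    · rw [Fin.snoc_castSucc, Fin.snoc_castSucc, h.yy]
  · refine Fin.lastCases ?_ (fun i => ?_) i <;> refine Fin.lastCases ?_ (fun j => ?_) j
    · rw [Fin.snoc_last, Fin.snoc_last, hab, if_pos rfl]
    · rw [Fin.snoc_last, Fin.snoc_castSucc, polar_comm, hya, if_neg (Fin.castSucc_lt_last j).ne']
    · rw [Fin.snoc_last, Fin.snoc_castSucc, hxb, if_neg (Fin.castSucc_lt_last i).ne]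
    · rw [Fin.snoc_castSucc, Fin.snoc_castSucc, h.xy]
      simp only [Fin.castSucc_inj]

theorem Wl_snoc {a : V} (i : Fin k) : Wl F (Fin.snoc x a : Fin (k + 1) → V) i = Wl F x i := by
  unfold Wl
  congr 1
  ext v
  constructor
  · rintro ⟨j, hj, rfl⟩
    refine Fin.lastCases (fun hj => ?_) (fun j hj => ?_) j hj
    · exfalso
      have h1 : (Fin.last k : ℕ) < i := hj
      rw [Fin.val_last] at h1
      omega
    · rw [Fin.snoc_castSucc]
      exact ⟨j, hj, rfl⟩
  · rintro ⟨j, hj, rfl⟩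
    exact ⟨j.castSucc, hj, by rw [Fin.snoc_castSucc]⟩

theorem Wl_polar {i : ℕ} {t : V} (ht : ∀ j : Fin k, (j : ℕ) < i → polar Q (x j) t = 0) {s : V} (hs : s ∈ Wl F x i) :
    polar Q s t = 0 := by
  induction hs using Submodule.span_induction with
  | mem v hv =>
    obtain ⟨l, hl, rfl⟩ := hv
    exact ht l hl
  | zero => rw [polar_zero_left]
  | add v w _ _ h1 h2 => rw [polar_add_left, h1, h2, add_zero]
  | smul c v _ h1 => rw [polar_smul_left, h1, smul_zero]

theorem Hs.Wl_x (h : Hs Q k x y) {i : ℕ} {s : V} (hs : s ∈ Wl F x i) (j : Fin k) : polar Q (x j) s = 0 := by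
  rw [polar_comm]
  exact Wl_polar (fun l _ => h.xx l j) hs

theorem Hs.Wl_Q (h : Hs Q k x y) {i : ℕ} {s : V} (hs : s ∈ Wl F x i) : Q s = 0 := by
  induction hs using Submodule.span_induction with
  | mem v hv =>
    obtain ⟨l, -, rfl⟩ := hv
    exact h.qx l
  | zero => rw [QuadraticMap.map_zero]
  | add v w hv hw h1 h2 =>
    rw [Q_add, h1, h2, Wl_polar (fun l _ => h.Wl_x hw l) hv]
    ring
  | smul c v _ h1 => rw [QuadraticMap.map_smul, h1, smul_zero]

theorem Hs.Wl_sum (h : Hs Q k x y) {i : ℕ} {s : V} (hs : s ∈ Wl F x i) : s = ∑ j, polar Q (y j) s • x j := by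
  induction hs using Submodule.span_induction with
  | mem v hv =>
    obtain ⟨l, -, rfl⟩ := hv
    rw [Finset.sum_eq_single l]
    · rw [polar_comm, h.xy, if_pos rfl, one_smul]
    · intro j _ hj
      rw [polar_comm, h.xy, if_neg (Ne.symm hj), zero_smul]
    · intro hl; exact absurd (Finset.mem_univ l) hl
  | zero => simp [polar_zero_right]
  | add v w _ _ h1 h2 =>
    conv_lhs => rw [h1, h2]
    rw [← Finset.sum_add_distrib]
    exact Finset.sum_congr rfl fun j _ => by rw [polar_add_right, add_smul]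
  | smul c v _ h1 =>
    conv_lhs => rw [h1]
    rw [Finset.smul_sum]
    exact Finset.sum_congr rfl fun j _ => by rw [polar_smul_right, smul_smul, smul_eq_mul]

theorem Hs.Wl_eq_zero (h : Hs Q k x y) {i : ℕ} {s : V} (hs : s ∈ Wl F x i) (h0 : ∀ j, polar Q (y j) s = 0) : s = 0 := by
  rw [h.Wl_sum hs]
  exact Finset.sum_eq_zero fun j _ => by rw [h0, zero_smul]

/-- stability of the lower spans -/
theorem Wl_stable {g : V ≃ₗ[F] V} (hg : ∀ i : Fin k, g (x i) - x i ∈ Wl F x i) {i : ℕ} {s : V} (hs : s ∈ Wl F x i) :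
    g s ∈ Wl F x i := by
  induction hs using Submodule.span_induction with
  | mem v hv =>
    obtain ⟨l, hl, rfl⟩ := hv
    have h1 : g (x l) = (g (x l) - x l) + x l := by abel
    rw [h1]
    exact Submodule.add_mem _ (Wl_mono (le_of_lt hl) (hg l)) (mem_Wl hl)
  | zero => rw [map_zero]; exact Submodule.zero_mem _
  | add v w _ _ h1 h2 => rw [map_add]; exact Submodule.add_mem _ h1 h2
  | smul c v _ h1 => rw [map_smul]; exact Submodule.smul_mem _ _ h1

theorem Hs.finrank_Wl [FiniteDimensional F V] (h : Hs Q k x y) : finrank F (Wl F x k) = k := by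
  have h1 : Wl F x k = Submodule.span F (Set.range x) := by
    unfold Wl
    rw [← Set.image_univ]
    congr 2
    ext j
    simp
  have h2 : LinearIndependent F x := by
    rw [Fintype.linearIndependent_iff]
    intro c hc i
    have h3 := congrArg (polarBilin Q (y i)) hc
    rw [map_sum, map_zero, Finset.sum_eq_single i] at h3
    · rw [map_smul, polarBilin_apply_apply, polar_comm, h.xy, if_pos rfl, smul_eq_mul, mul_one] at h3
      exact h3
    · intro j _ hj
      rw [map_smul, polarBilin_apply_apply, polar_comm, h.xy, if_neg hj, smul_zero]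
    · intro hi; exact absurd (Finset.mem_univ i) hi
  rw [h1, finrank_span_eq_card h2, Fintype.card_fin]

section flag

variable [Finite F] [FiniteDimensional F V] {p : ℕ} [Fact p.Prime] [CharP F p]

/-- **Flags fixed by `p`-groups.** -/
theorem exists_flag (hN : Nondeg Q) {X : Subgroup (V ≃ₗ[F] V)} (hX : IsPGroup p X) (hXO : X ≤ O Q) (k : ℕ)
    (hk : 2 * k + 1 ≤ finrank F V) :
    ∃ x y : Fin k → V, Hs Q k x y ∧ ∀ g ∈ X, ∀ i : Fin k, g (x i) - x i ∈ Wl F x i := by
  induction k with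
  | zero =>
    exact ⟨fun i => i.elim0, fun i => i.elim0, ⟨fun i => i.elim0, fun i => i.elim0, fun i => i.elim0, fun i => i.elim0,
      fun i => i.elim0⟩, fun _ _ i => i.elim0⟩
  | succ k ih =>
    obtain ⟨x, y, h, hg⟩ := ih (by omega)
    set hB := frm_polar Q with hBd
    have hmem : ∀ v, v ∈ hB.perp (Wl F x k) ↔ ∀ j, polar Q (x j) v = 0 := by
      intro v
      constructor
      · intro hv j
        rw [polar_comm]
        exact hv _ (mem_Wl j.2)
      · intro hv s hs
        rw [BB_apply, polar_comm]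
        exact Wl_polar (fun j _ => hv j) hs
    have hSX : ∀ g ∈ X, ∀ s ∈ Wl F x k, g s ∈ Wl F x k := fun g hgX s hs => Wl_stable (hg g hgX) hs
    have h1 := hB.finrank_add_perp_ge (Wl F x k)
    rw [h.finrank_Wl] at h1
    obtain ⟨v, hv, hvS, hvQ, hvX⟩ := exists_rel hX hXO (S := Wl F x k) (U := hB.perp (Wl F x k))
      (fun s hs => (hmem s).2 fun j => h.Wl_x hs j) hSX (perp_stable hXO hSX)
      (fun u hu s hs => by
        have h2 : polar Q u s = 0 := hu s hs
        rw [Q_add, h.Wl_Q hs, h2]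
        ring) (by rw [h.finrank_Wl]; omega)
    rw [hmem] at hv
    -- the new vector
    set s := ∑ i, (polar Q (y i) v • x i + polar Q (x i) v • y i) with hs
    have hsW : s ∈ Wl F x k := by
      refine Submodule.sum_mem _ fun i _ => ?_
      rw [hv i, zero_smul, add_zero]
      exact Submodule.smul_mem _ _ (mem_Wl i.2)
    have hpa : prj Q x y v = v - s := rfl
    set a := prj Q x y v with ha
    have hxa : ∀ i, polar Q (x i) a = 0 := h.polar_x_prj v
    have hya : ∀ i, polar Q (y i) a = 0 := h.polar_y_prj v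
    have haQ : Q a = 0 := by
      have h2 : a = v + -s := by rw [hpa]; abel
      have h3 : polar Q v (-s) = 0 := by
        rw [polar_comm]
        exact Wl_polar (fun j _ => hv j) (Submodule.neg_mem _ hsW)
      rw [h2, Q_add, hvQ, h.Wl_Q (Submodule.neg_mem _ hsW), h3]
      ring
    have ha0 : a ≠ 0 := by
      intro h0
      apply hvS
      have h2 : v = s := sub_eq_zero.1 (hpa ▸ h0)
      rw [h2]; exact hsW
    have haX : ∀ g ∈ X, g a - a ∈ Wl F x k := by
      intro g hgX
      have h2 : g a - a = (g v - v) - (g s - s) := by rw [hpa, map_sub]; abel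
      rw [h2]
      exact Submodule.sub_mem _ (hvX g hgX) (Submodule.sub_mem _ (hSX g hgX s hsW) hsW)
    obtain ⟨u, hu⟩ : ∃ u, polar Q a u ≠ 0 := by
      by_contra hcon
      push Not at hcon
      exact ha0 (hN a hcon)
    set u' := prj Q x y u with hu'
    have hau' : polar Q a u' = polar Q a u := by
      rw [hu', prj, polar_sub_right]
      have h2 : polar Q a (∑ i, (polar Q (y i) u • x i + polar Q (x i) u • y i)) = 0 := by
        have h3 : polar Q a (∑ i, (polar Q (y i) u • x i + polar Q (x i) u • y i)) =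
            polarBilin Q a (∑ i, (polar Q (y i) u • x i + polar Q (x i) u • y i)) := rfl
        rw [h3, map_sum]
        refine Finset.sum_eq_zero fun i _ => ?_
        rw [map_add, map_smul, map_smul, polarBilin_apply_apply, polarBilin_apply_apply, polar_comm Q a (x i),
          polar_comm Q a (y i), hxa, hya, smul_zero, smul_zero, add_zero]
      rw [h2, sub_zero]
    set c := (polar Q a u)⁻¹ with hc
    have h4 : polar Q a (c • u') = 1 := by
      rw [polar_smul_right, hau', smul_eq_mul, hc, inv_mul_cancel₀ hu]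
    have haa : polar Q a a = 0 := by rw [polar_self, haQ, smul_zero]
    set b := c • u' + (-(Q (c • u'))) • a with hb
    have hbQ : Q b = 0 := by
      rw [hb, Q_add, QuadraticMap.map_smul Q (-(Q (c • u'))) a, haQ, polar_smul_right, polar_comm Q (c • u') a, h4,
        smul_eq_mul, smul_eq_mul]
      ring
    have hab : polar Q a b = 1 := by
      rw [hb, polar_add_right, h4, polar_smul_right, haa, smul_zero, add_zero]
    refine ⟨Fin.snoc x a, Fin.snoc y b, h.snoc haQ hbQ hab hxa hya (fun i => ?_) (fun i => ?_), fun g hgX i => ?_⟩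
    · rw [hb, polar_add_right, polar_smul_right, polar_smul_right, hxa, h.polar_x_prj, smul_zero, smul_zero, add_zero]
    · rw [hb, polar_add_right, polar_smul_right, polar_smul_right, hya, h.polar_y_prj, smul_zero, smul_zero, add_zero]
    · refine Fin.lastCases ?_ (fun i => ?_) i
      · rw [Fin.snoc_last, Fin.val_last, ]
        have h5 : Wl F (Fin.snoc x a : Fin (k + 1) → V) k = Wl F x k := by
          unfold Wl
          congr 1
          ext v
          constructor
          · rintro ⟨j, hj, rfl⟩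
            refine Fin.lastCases (fun hj => ?_) (fun j hj => ?_) j hj
            · exact absurd hj (by simp)
            · rw [Fin.snoc_castSucc]
              exact ⟨j, hj, rfl⟩
          · rintro ⟨j, hj, rfl⟩
            exact ⟨j.castSucc, hj, by rw [Fin.snoc_castSucc]⟩
        rw [h5]
        exact haX g hgX
      · rw [Fin.snoc_castSucc, Fin.val_castSucc, Wl_snoc]
        exact hg g hgX i

end flag

/-! ### The unipotent radical -/

/-- an element of order prime to the characteristic fixes `v` if it fixes `h v - v` -/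
theorem fix_of_fix {h : V ≃ₗ[F] V} {m : ℕ} (hm : (m : F) ≠ 0) (hh : h ^ m = 1) {v : V} (hv : h (h v - v) = h v - v) :
    h v = v := by
  have h1 : ∀ n : ℕ, (h ^ n) v = v + (n : F) • (h v - v) := by
    intro n
    induction n with
    | zero => simp
    | succ n ih =>
      rw [pow_succ', LinearEquiv.mul_apply, ih, map_add, map_smul, hv, Nat.cast_succ, add_smul, one_smul]
      abel
  have h2 := h1 m
  rw [hh] at h2
  have h3 : (m : F) • (h v - v) = 0 := by
    have h4 : v = v + (m : F) • (h v - v) := h2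
    exact left_eq_add.1 h4
  exact sub_eq_zero.1 ((smul_eq_zero.1 h3).resolve_left hm)

/-- the condition for the radical -/
def IsK (Q : QuadraticForm F V) (x : Fin k → V) (g : V ≃ₗ[F] V) : Prop :=
  (∀ i : Fin k, g (x i) - x i ∈ Wl F x i) ∧ ∀ v, (∀ j, polar Q (x j) v = 0) → g v - v ∈ Wl F x k

theorem Wl_inv [FiniteDimensional F V] {g : V ≃ₗ[F] V} (hg : ∀ i : Fin k, g (x i) - x i ∈ Wl F x i) {i : ℕ} {s : V}
    (hs : s ∈ Wl F x i) : (g⁻¹ : V ≃ₗ[F] V) s ∈ Wl F x i := by
  have h1 : (Wl F x i).map (g : V →ₗ[F] V) = Wl F x i := by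
    apply Submodule.eq_of_le_of_finrank_eq
    · rintro _ ⟨s, hs, rfl⟩
      exact Wl_stable hg hs
    · exact LinearEquiv.finrank_map_eq g _
  rw [← h1] at hs
  obtain ⟨t, ht, rfl⟩ := hs
  have h2 : (g⁻¹ : V ≃ₗ[F] V) ((g : V →ₗ[F] V) t) = t := g.symm_apply_apply t
  rw [h2]
  exact ht

theorem perp_map [FiniteDimensional F V] {g : V ≃ₗ[F] V} (hgO : g ∈ O Q)
    (hg : ∀ i : Fin k, g (x i) - x i ∈ Wl F x i) {v : V} (hv : ∀ j, polar Q (x j) v = 0) (j : Fin k) :
    polar Q (x j) (g v) = 0 := by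
  have h1 : g ((g⁻¹ : V ≃ₗ[F] V) (x j)) = x j := g.apply_symm_apply _
  rw [← h1, polar_map hgO]
  exact Wl_polar (fun l _ => hv l) (Wl_inv hg (mem_Wl (Nat.lt_succ_self j)))

theorem perp_inv [FiniteDimensional F V] {g : V ≃ₗ[F] V} (hgO : g ∈ O Q)
    (hg : ∀ i : Fin k, g (x i) - x i ∈ Wl F x i) {v : V} (hv : ∀ j, polar Q (x j) v = 0) (j : Fin k) :
    polar Q (x j) ((g⁻¹ : V ≃ₗ[F] V) v) = 0 := by
  have h1 : g ((g⁻¹ : V ≃ₗ[F] V) v) = v := g.apply_symm_apply _
  rw [← polar_map hgO, h1]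
  exact Wl_polar (fun l _ => hv l) (Wl_stable hg (mem_Wl (Nat.lt_succ_self j)))

/-- the unipotent radical -/
def KK [FiniteDimensional F V] (Q : QuadraticForm F V) (x : Fin k → V) : Subgroup ↥(E Q) where
  carrier := {g | IsK Q x (g : V ≃ₗ[F] V)}
  one_mem' := by
    refine ⟨fun i => ?_, fun v _ => ?_⟩
    · show x i - x i ∈ _
      rw [sub_self]; exact Submodule.zero_mem _
    · show v - v ∈ _
      rw [sub_self]; exact Submodule.zero_mem _
  mul_mem' := by
    rintro ⟨g, hgE⟩ ⟨h, hhE⟩ ⟨hg1, hg2⟩ ⟨hh1, hh2⟩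
    have key : ∀ v, (g * h) v - v = g (h v - v) + (g v - v) := fun v => by
      rw [LinearEquiv.mul_apply, map_sub]; abel
    refine ⟨fun i => ?_, fun v hv => ?_⟩
    · show (g * h) (x i) - x i ∈ _
      rw [key]
      exact Submodule.add_mem _ (Wl_stable hg1 (hh1 i)) (hg1 i)
    · show (g * h) v - v ∈ _
      rw [key]
      exact Submodule.add_mem _ (Wl_stable hg1 (hh2 v hv)) (hg2 v hv)
  inv_mem' := by
    rintro ⟨g, hgE⟩ ⟨hg1, hg2⟩
    have key : ∀ v, (g⁻¹ : V ≃ₗ[F] V) v - v = - (g⁻¹ : V ≃ₗ[F] V) (g v - v) := fun v => by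
      have h2 : (g⁻¹ : V ≃ₗ[F] V) (g v) = v := g.symm_apply_apply v
      rw [map_sub, h2]; abel
    refine ⟨fun i => ?_, fun v hv => ?_⟩
    · show (g⁻¹ : V ≃ₗ[F] V) (x i) - x i ∈ _
      rw [key]
      exact Submodule.neg_mem _ (Wl_inv hg1 (hg1 i))
    · show (g⁻¹ : V ≃ₗ[F] V) v - v ∈ _
      rw [key]
      exact Submodule.neg_mem _ (Wl_inv hg1 (hg2 v hv))

theorem mem_KK [FiniteDimensional F V] {g : ↥(E Q)} : g ∈ KK Q x ↔ IsK Q x (g : V ≃ₗ[F] V) := Iff.rfl

theorem IsK.trivial {h : V ≃ₗ[F] V} (hhO : h ∈ O Q) (hh : IsK Q x h) {m : ℕ} (hm : (m : F) ≠ 0) (hhm : h ^ m = 1) :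
    h = 1 := by
  have hW : ∀ i : ℕ, (∀ j : Fin k, (j : ℕ) < i → h (x j) = x j) → ∀ s ∈ Wl F x i, h s = s := by
    intro i hi s hs
    induction hs using Submodule.span_induction with
    | mem v hv =>
      obtain ⟨l, hl, rfl⟩ := hv
      exact hi l hl
    | zero => rw [map_zero]
    | add v w _ _ h1 h2 => rw [map_add, h1, h2]
    | smul c v _ h1 => rw [map_smul, h1]
  have h1 : ∀ n : ℕ, ∀ i : Fin k, (i : ℕ) = n → h (x i) = x i := by
    intro n
    induction n using Nat.strong_induction_on with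
    | _ n ih =>
      intro i hi
      apply fix_of_fix hm hhm
      exact hW i (fun j hj => ih j (by omega) j rfl) _ (hh.1 i)
  have h2 : ∀ v, (∀ j, polar Q (x j) v = 0) → h v = v := by
    intro v hv
    apply fix_of_fix hm hhm
    exact hW k (fun j _ => h1 j j rfl) _ (hh.2 v hv)
  apply LinearEquiv.ext
  intro v
  apply fix_of_fix hm hhm
  apply h2
  intro j
  rw [polar_sub_right, sub_eq_zero]
  conv_lhs => rw [← h1 j j rfl]
  exact polar_map hhO _ _

section syl

variable [Finite F] [FiniteDimensional F V] {p : ℕ} [Fact p.Prime] [CharP F p]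

theorem KK_isPGroup : IsPGroup p (KK Q x) := by
  have hfV : Finite V := Module.finite_of_finite F
  have hfin : Finite (V ≃ₗ[F] V) := DFunLike.finite _
  rintro ⟨g, hg⟩
  have hp : p.Prime := Fact.out
  obtain ⟨a, m, hm, ha⟩ := Nat.exists_eq_pow_mul_and_not_dvd (orderOf_pos g).ne' p hp.ne_one
  refine ⟨a, Subtype.ext ?_⟩
  show g ^ p ^ a = 1
  have h1 : g ^ p ^ a ∈ KK Q x := (KK Q x).pow_mem hg _
  have h2 : (((g ^ p ^ a : ↥(E Q)) : V ≃ₗ[F] V)) ^ m = 1 := by
    have h3 : (g ^ p ^ a) ^ m = 1 := by rw [← pow_mul, ← ha, pow_orderOf_eq_one]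
    exact congrArg Subtype.val h3
  have h3 : (m : F) ≠ 0 := fun h => hm ((CharP.cast_eq_zero_iff F p m).1 h)
  exact Subtype.ext (IsK.trivial (Q := Q) (x := x) (E_le_O (g ^ p ^ a).2) h1 h3 h2)

/-- **Sylow subgroups are radicals of flags.** -/
theorem exists_sylow (hN : Nondeg Q) (h2 : (2 : F) ≠ 0) (U : Sylow p ↥(E Q)) (hk : 2 * k + 1 ≤ finrank F V)
    (hk2 : finrank F V ≤ 2 * k + 2) : ∃ x y : Fin k → V, Hs Q k x y ∧ (U : Subgroup ↥(E Q)) = KK Q x := by
  have hX : IsPGroup p ((U : Subgroup ↥(E Q)).map (E Q).subtype) := U.isPGroup'.map _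
  have hXO : (U : Subgroup ↥(E Q)).map (E Q).subtype ≤ O Q := (Subgroup.map_subtype_le _).trans E_le_O
  obtain ⟨x, y, h, hg⟩ := exists_flag hN hX hXO k hk
  refine ⟨x, y, h, ?_⟩
  symm
  refine U.is_maximal' (KK_isPGroup (p := p)) fun g hgU => ?_
  have hgX : (g : V ≃ₗ[F] V) ∈ (U : Subgroup ↥(E Q)).map (E Q).subtype := ⟨g, hgU, rfl⟩
  refine ⟨hg _ hgX, fun v hv => ?_⟩
  refine sub_mem_of_end (p := p) h2 (hXO hgX) ?_ (S := Wl F x k) (U := ⊤) ?_ le_top (fun s hs => h.Wl_Q hs)
    (fun s hs => Wl_stable (hg _ hgX) hs) (fun u _ => Submodule.mem_top) ?_ v Submodule.mem_top (fun s hs => ?_)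
  · obtain ⟨j, hj⟩ := hX ⟨_, hgX⟩
    exact ⟨j, congrArg Subtype.val hj⟩
  · intro u _ hu
    by_contra hcon
    push Not at hcon
    exact hu (hN u fun v => hcon v Submodule.mem_top)
  · rw [finrank_top, h.finrank_Wl]
    exact hk2
  · rw [polar_comm]
    exact Wl_polar (fun j _ => hv j) hs

end syl

/-! ### the 2-group -/

theorem Hs.decomp (_h : Hs Q k x y) (v : V) :
    v = ∑ i, (polar Q (y i) v • x i + polar Q (x i) v • y i) + prj Q x y v := by
  rw [prj]; abel

/-- two maps which agree on the system and its complement are equal -/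
theorem Hs.ext (h : Hs Q k x y) {f g : V ≃ₗ[F] V} (hx : ∀ i, f (x i) = g (x i)) (hy : ∀ i, f (y i) = g (y i))
    (h0 : ∀ v, (∀ j, polar Q (x j) v = 0) → (∀ j, polar Q (y j) v = 0) → f v = g v) : f = g := by
  apply LinearEquiv.ext
  intro v
  rw [h.decomp v, map_add, map_add, map_sum, map_sum, h0 _ (h.polar_x_prj v) (h.polar_y_prj v)]
  congr 1
  exact Finset.sum_congr rfl fun i _ => by rw [map_add, map_add, map_smul, map_smul, map_smul, map_smul, hx, hy]

/-- `w` orthogonal to the system and its complement is zero -/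
theorem Hs.eq_zero (h : Hs Q k x y) (hN : Nondeg Q) {w : V} (hx : ∀ i, polar Q (x i) w = 0)
    (hy : ∀ i, polar Q (y i) w = 0)
    (h0 : ∀ v, (∀ j, polar Q (x j) v = 0) → (∀ j, polar Q (y j) v = 0) → polar Q v w = 0) : w = 0 := by
  apply hN
  intro v
  rw [polar_comm, h.decomp v, polar_add_left, h0 _ (h.polar_x_prj v) (h.polar_y_prj v), add_zero, polar_comm]
  have h1 : polar Q w (∑ i, (polar Q (y i) v • x i + polar Q (x i) v • y i)) =
      polarBilin Q w (∑ i, (polar Q (y i) v • x i + polar Q (x i) v • y i)) := rfl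
  rw [h1, map_sum]
  refine Finset.sum_eq_zero fun i _ => ?_
  rw [map_add, map_smul, map_smul, polarBilin_apply_apply, polarBilin_apply_apply, polar_comm Q w (x i),
    polar_comm Q w (y i), hx, hy, smul_zero, smul_zero, add_zero]

/-- scalars `± 1` on the planes, trivial on the complement -/
def IsA (Q : QuadraticForm F V) (x y : Fin k → V) (ε : Fin k → F) (g : V ≃ₗ[F] V) : Prop :=
  (∀ i, g (x i) = ε i • x i) ∧ (∀ i, g (y i) = ε i • y i) ∧
    ∀ v, (∀ j, polar Q (x j) v = 0) → (∀ j, polar Q (y j) v = 0) → g v = v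

/-- the 2-group -/
def AA (Q : QuadraticForm F V) (x y : Fin k → V) : Subgroup ↥(E Q) where
  carrier := {g | ∃ ε : Fin k → F, (∀ i, ε i * ε i = 1) ∧ IsA Q x y ε (g : V ≃ₗ[F] V)}
  one_mem' := ⟨fun _ => 1, fun _ => one_mul 1, fun i => (one_smul F _).symm, fun i => (one_smul F _).symm,
    fun _ _ _ => rfl⟩
  mul_mem' := by
    rintro ⟨g, hgE⟩ ⟨h, hhE⟩ ⟨ε, hε, hg1, hg2, hg3⟩ ⟨δ, hδ, hh1, hh2, hh3⟩
    refine ⟨fun i => ε i * δ i, fun i => by rw [mul_mul_mul_comm, hε, hδ, one_mul], fun i => ?_, fun i => ?_,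
      fun v hv hv' => ?_⟩
    · show (g * h) (x i) = _
      rw [LinearEquiv.mul_apply, hh1, map_smul]
      rw [show g (x i) = ε i • x i from hg1 i, smul_smul, mul_comm]
    · show (g * h) (y i) = _
      rw [LinearEquiv.mul_apply, hh2, map_smul]
      rw [show g (y i) = ε i • y i from hg2 i, smul_smul, mul_comm]
    · show (g * h) v = _
      rw [LinearEquiv.mul_apply, hh3 v hv hv']
      exact hg3 v hv hv'
  inv_mem' := by
    rintro ⟨g, hgE⟩ ⟨ε, hε, hg1, hg2, hg3⟩
    have key : ∀ v, (g⁻¹ : V ≃ₗ[F] V) (g v) = v := fun v => g.symm_apply_apply v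
    refine ⟨ε, hε, fun i => ?_, fun i => ?_, fun v hv hv' => ?_⟩
    · show (g⁻¹ : V ≃ₗ[F] V) (x i) = _
      have h1 := key (ε i • x i)
      rw [map_smul, show g (x i) = ε i • x i from hg1 i, smul_smul, hε, one_smul] at h1
      exact h1
    · show (g⁻¹ : V ≃ₗ[F] V) (y i) = _
      have h1 := key (ε i • y i)
      rw [map_smul, show g (y i) = ε i • y i from hg2 i, smul_smul, hε, one_smul] at h1
      exact h1
    · show (g⁻¹ : V ≃ₗ[F] V) v = _
      have h1 := key v
      rw [show g v = v from hg3 v hv hv'] at h1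
      exact h1

theorem Hs.AA_isPGroup (h : Hs Q k x y) : IsPGroup 2 (AA Q x y) := by
  rintro ⟨⟨g, hgE⟩, ε, hε, hg1, hg2, hg3⟩
  refine ⟨1, Subtype.ext (Subtype.ext ?_)⟩
  show g ^ 2 ^ 1 = 1
  rw [pow_one, pow_two]
  refine h.ext (fun i => ?_) (fun i => ?_) fun v hv hv' => ?_
  · rw [LinearEquiv.mul_apply, show g (x i) = ε i • x i from hg1 i, map_smul, show g (x i) = ε i • x i from hg1 i,
      smul_smul, hε, one_smul]
    rfl
  · rw [LinearEquiv.mul_apply, show g (y i) = ε i • y i from hg2 i, map_smul, show g (y i) = ε i • y i from hg2 i,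
      smul_smul, hε, one_smul]
    rfl
  · rw [LinearEquiv.mul_apply, show g v = v from hg3 v hv hv', show g v = v from hg3 v hv hv']
    rfl

theorem IsA.Wl {ε : Fin k → F} {g : V ≃ₗ[F] V} (hg : IsA Q x y ε g) {i : ℕ} {s : V} (hs : s ∈ Wl F x i) :
    g s ∈ Wl F x i := by
  induction hs using Submodule.span_induction with
  | mem v hv =>
    obtain ⟨l, hl, rfl⟩ := hv
    rw [hg.1]
    exact Submodule.smul_mem _ _ (mem_Wl hl)
  | zero => rw [map_zero]; exact Submodule.zero_mem _
  | add v w _ _ h1 h2 => rw [map_add]; exact Submodule.add_mem _ h1 h2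
  | smul c v _ h1 => rw [map_smul]; exact Submodule.smul_mem _ _ h1

/-- `A` normalises the radical -/
theorem AA_conj [FiniteDimensional F V] {a g : ↥(E Q)} (ha : a ∈ AA Q x y) (hg : g ∈ KK Q x) :
    a * g * a⁻¹ ∈ KK Q x := by
  have hai := (AA Q x y).inv_mem ha
  obtain ⟨ε, hε, ha'⟩ := ha
  obtain ⟨δ, hδ, hai'⟩ := hai
  have key : ∀ v, ((a * g * a⁻¹ : ↥(E Q)) : V ≃ₗ[F] V) v - v = (a : V ≃ₗ[F] V)
      ((g : V ≃ₗ[F] V) (((a⁻¹ : ↥(E Q)) : V ≃ₗ[F] V) v) - ((a⁻¹ : ↥(E Q)) : V ≃ₗ[F] V) v) := by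
    intro v
    rw [map_sub]
    congr 1
    exact ((a : V ≃ₗ[F] V).apply_symm_apply v).symm
  refine ⟨fun i => ?_, fun v hv => ?_⟩
  · rw [key, hai'.1, map_smul, ← smul_sub]
    exact ha'.Wl (Submodule.smul_mem _ _ (hg.1 i))
  · rw [key]
    refine ha'.Wl (hg.2 _ fun j => ?_)
    have h1 : x j = δ j • (((a⁻¹ : ↥(E Q)) : V ≃ₗ[F] V) (x j)) := by
      rw [hai'.1, smul_smul, hδ, one_smul]
    rw [h1, polar_smul_left, polar_map (E_le_O (a⁻¹ : ↥(E Q)).2), hv, smul_zero]

theorem AA_le_normalizer [FiniteDimensional F V] : AA Q x y ≤ Subgroup.normalizer ((KK Q x : Subgroup ↥(E Q)) : Set ↥(E Q)) := by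
  intro a ha
  rw [Subgroup.mem_normalizer_iff]
  intro g
  constructor
  · exact fun hg => AA_conj ha hg
  · intro hg
    have h1 := AA_conj ((AA Q x y).inv_mem ha) hg
    have h2 : a⁻¹ * (a * g * a⁻¹) * a⁻¹⁻¹ = g := by group
    rwa [h2] at h1

/-- the sign changes on two planes -/
theorem Hs.exists_z (h : Hs Q k x y) (hG : Good Q) {i j : Fin k} (hij : i ≠ j) :
    ∃ g ∈ AA Q x y, IsA Q x y (fun l => if l = i ∨ l = j then -1 else 1) (g : V ≃ₗ[F] V) := by
  have hQp : ∀ l, Q (x l + y l) = 1 := fun l => by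
    rw [Q_add, h.qx, h.qy, h.xy, if_pos rfl]; ring
  have hQm : ∀ l, Q (x l - y l) = -1 := fun l => by
    rw [sub_eq_add_neg, Q_add, QuadraticMap.map_neg, h.qx, h.qy, polar_neg_right, h.xy, if_pos rfl]; ring
  have hp : ∀ l, Q (x l + y l) ≠ 0 := fun l => by rw [hQp]; exact one_ne_zero
  have hm : ∀ l, Q (x l - y l) ≠ 0 := fun l => by rw [hQm]; exact neg_ne_zero.2 one_ne_zero
  -- the product of the two reflections of a plane
  let R : Fin k → V ≃ₗ[F] V := fun l => refl Q (x l + y l) (hp l) * refl Q (x l - y l) (hm l)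
  have hR : ∀ l v, R l v = v - (polar Q (y l) v • x l + polar Q (x l) v • y l) -
      (polar Q (y l) v • x l + polar Q (x l) v • y l) := by
    intro l v
    show refl Q (x l + y l) (hp l) (refl Q (x l - y l) (hm l) v) = _
    rw [refl_apply, refl_apply, hQp, hQm, polar_sub_right, polar_smul_right, polar_add_left, polar_add_left,
      polar_sub_left, polar_sub_right, polar_sub_right, h.xx, h.xy, h.yy, if_pos rfl, polar_comm Q (y l) (x l), h.xy,
      if_pos rfl]
    have : ((-1 : F))⁻¹ = -1 := by norm_num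
    rw [this, inv_one]
    simp only [smul_eq_mul]
    module
  have hcomm : refl Q (x i - y i) (hm i) * refl Q (x j + y j) (hp j) =
      refl Q (x j + y j) (hp j) * refl Q (x i - y i) (hm i) := by
    have h1 : polar Q (x i - y i) (x j + y j) = 0 := by
      rw [polar_sub_left, polar_add_right, polar_add_right, h.xx, h.yy, h.xy, if_neg hij, polar_comm Q (y i) (x j), h.xy,
        if_neg (Ne.symm hij)]
      ring
    apply LinearEquiv.ext
    intro v
    rw [LinearEquiv.mul_apply, LinearEquiv.mul_apply, refl_apply, refl_apply, refl_apply, refl_apply, polar_sub_right,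
      polar_sub_right, polar_smul_right, polar_smul_right, h1, polar_comm Q (x j + y j) (x i - y i), h1, smul_zero,
      smul_zero, sub_zero, sub_zero]
    abel
  have hE : R i * R j ∈ E Q := by
    have h1 : R i * R j = (refl Q (x i + y i) (hp i) * refl Q (x j + y j) (hp j)) *
        (refl Q (x i - y i) (hm i) * refl Q (x j - y j) (hm j)) := by
      show refl Q (x i + y i) (hp i) * refl Q (x i - y i) (hm i) *
        (refl Q (x j + y j) (hp j) * refl Q (x j - y j) (hm j)) = _
      rw [mul_assoc, ← mul_assoc (refl Q (x i - y i) (hm i)), hcomm, mul_assoc, ← mul_assoc]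
    rw [h1]
    exact E_mul (hG.refl_mul_refl_mem (hp j) (hp i) (by rw [hQp, hQp]))
      (hG.refl_mul_refl_mem (hm j) (hm i) (by rw [hQm, hQm]))
  have hRx : ∀ l l', R l (x l') = if l' = l then -x l' else x l' := by
    intro l l'
    rw [hR, polar_comm Q (y l) (x l'), h.xy, h.xx]
    split_ifs with hl
    · subst hl; module
    · module
  have hRy : ∀ l l', R l (y l') = if l' = l then -y l' else y l' := by
    intro l l'
    rw [hR, h.yy, h.xy]
    split_ifs with h1 h2 h2
    · subst h1; module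
    · exact absurd h1.symm h2
    · exact absurd h2.symm h1
    · module
  have hA : IsA Q x y (fun l => if l = i ∨ l = j then -1 else 1) (R i * R j) := by
    refine ⟨fun l => ?_, fun l => ?_, fun v hv hv' => ?_⟩
    · rw [LinearEquiv.mul_apply, hRx]
      dsimp only
      by_cases h1 : l = j
      · subst h1
        rw [if_pos rfl, map_neg, hRx, if_neg (Ne.symm hij), if_pos (Or.inr rfl), neg_one_smul]
      · rw [if_neg h1, hRx]
        by_cases h2 : l = i
        · rw [if_pos h2, if_pos (Or.inl h2), neg_one_smul]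
        · rw [if_neg h2, if_neg (by rintro (h | h); exacts [h2 h, h1 h]), one_smul]
    · rw [LinearEquiv.mul_apply, hRy]
      dsimp only
      by_cases h1 : l = j
      · subst h1
        rw [if_pos rfl, map_neg, hRy, if_neg (Ne.symm hij), if_pos (Or.inr rfl), neg_one_smul]
      · rw [if_neg h1, hRy]
        by_cases h2 : l = i
        · rw [if_pos h2, if_pos (Or.inl h2), neg_one_smul]
        · rw [if_neg h2, if_neg (by rintro (h | h); exacts [h2 h, h1 h]), one_smul]
    · rw [LinearEquiv.mul_apply, hR, hR, hv j, hv' j]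
      simp only [zero_smul, add_zero, sub_zero, hv i, hv' i]
  refine ⟨⟨R i * R j, hE⟩, ⟨_, fun l => ?_, hA⟩, hA⟩
  split_ifs <;> norm_num

/-- **The centraliser of `A` in the radical is trivial.** -/
theorem Hs.centralizer_eq_one [FiniteDimensional F V] (h : Hs Q k x y) (hG : Good Q) (h2 : (2 : F) ≠ 0) (hk : 3 ≤ k)
    {g : ↥(E Q)} (hg : g ∈ KK Q x) (hc : ∀ a ∈ AA Q x y, a * g = g * a) : g = 1 := by
  obtain ⟨g', hgE⟩ := g
  have hgO : g' ∈ O Q := E_le_O hgE
  have key : ∀ c : F, c = -c → c = 0 := by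
    intro c hc
    have : (2 : F) * c = 0 := by linear_combination hc
    exact (mul_eq_zero.1 this).resolve_left h2
  -- the rule
  have rule : ∀ (a : ↥(E Q)), a ∈ AA Q x y → ∀ (u v : V) (δ ε : F), (a : V ≃ₗ[F] V) u = δ • u →
      (a : V ≃ₗ[F] V) v = ε • v → polar Q u (g' v - v) = δ * ε * polar Q u (g' v - v) := by
    intro a ha u v δ ε hu hv
    have h1 : (a : V ≃ₗ[F] V) (g' v) = g' ((a : V ≃ₗ[F] V) v) :=
      congrArg (fun t : ↥(E Q) => (t : V ≃ₗ[F] V) v) (hc a ha)
    have h3 : (a : V ≃ₗ[F] V) (g' v - v) = ε • (g' v - v) := by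
      rw [map_sub, h1, hv, map_smul, smul_sub]
    calc polar Q u (g' v - v) = polar Q ((a : V ≃ₗ[F] V) u) ((a : V ≃ₗ[F] V) (g' v - v)) :=
          (polar_map (E_le_O a.2) _ _).symm
      _ = _ := by rw [h3, hu, polar_smul_left, polar_smul_right, smul_eq_mul, smul_eq_mul, mul_assoc]
  have hex : ∀ i j : Fin k, ∃ l : Fin k, l ≠ i ∧ l ≠ j := by
    intro i j
    have h3 : 2 < Fintype.card (Fin k) := by rw [Fintype.card_fin]; omega
    obtain ⟨a, b, c, hab, hac, hbc⟩ := Fintype.two_lt_card_iff.1 h3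
    by_cases h4 : a = i ∨ a = j
    · by_cases h5 : b = i ∨ b = j
      · refine ⟨c, ?_, ?_⟩
        · rintro rfl
          rcases h4 with h4 | h4
          · exact hac h4
          · rcases h5 with h5 | h5
            · exact hbc h5
            · exact hab (h4.trans h5.symm)
        · rintro rfl
          rcases h4 with h4 | h4
          · rcases h5 with h5 | h5
            · exact hab (h4.trans h5.symm)
            · exact hbc h5
          · exact hac h4
      · exact ⟨b, fun h => h5 (Or.inl h), fun h => h5 (Or.inr h)⟩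
    · exact ⟨a, fun h => h4 (Or.inl h), fun h => h4 (Or.inr h)⟩
  -- `z` is `- 1` on the plane `i`, trivial on the plane `j ≠ i` and the complement
  have hz : ∀ i j : Fin k, i ≠ j → ∃ a ∈ AA Q x y, (a : V ≃ₗ[F] V) (x i) = (-1 : F) • x i ∧
      (a : V ≃ₗ[F] V) (y i) = (-1 : F) • y i ∧ (a : V ≃ₗ[F] V) (x j) = (1 : F) • x j ∧
      (a : V ≃ₗ[F] V) (y j) = (1 : F) • y j ∧
      ∀ v, (∀ j, polar Q (x j) v = 0) → (∀ j, polar Q (y j) v = 0) → (a : V ≃ₗ[F] V) v = (1 : F) • v := by
    intro i j hij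
    obtain ⟨l, hl1, hl2⟩ := hex i j
    obtain ⟨a, ha, ha1, ha2, ha3⟩ := h.exists_z hG (Ne.symm hl1)
    refine ⟨a, ha, ?_, ?_, ?_, ?_, fun v hv hv' => by rw [one_smul]; exact ha3 v hv hv'⟩
    · rw [ha1]; dsimp only; rw [if_pos (Or.inl rfl)]
    · rw [ha2]; dsimp only; rw [if_pos (Or.inl rfl)]
    · rw [ha1]; dsimp only; rw [if_neg (by rintro (h | h); exacts [hij h.symm, hl2 h.symm])]
    · rw [ha2]; dsimp only; rw [if_neg (by rintro (h | h); exacts [hij h.symm, hl2 h.symm])]
  have hneg : ∀ {c : F}, c = -1 * 1 * c → c = 0 := fun {c} hc => key c (by linear_combination hc)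
  have hneg' : ∀ {c : F}, c = 1 * -1 * c → c = 0 := fun {c} hc => key c (by linear_combination hc)
  have hne : ∃ i j : Fin k, i ≠ j := ⟨⟨0, by omega⟩, ⟨1, by omega⟩, fun h => absurd (congrArg Fin.val h) (by norm_num)⟩
  -- the vectors `x i`
  have hx : ∀ i, g' (x i) = x i := by
    intro i
    have hw : g' (x i) - x i ∈ Wl F x i := hg.1 i
    refine sub_eq_zero.1 (h.Wl_eq_zero hw fun j => ?_)
    by_cases hij : i = j
    · subst hij
      rw [polar_comm]
      exact Wl_polar (fun l hl => by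
        rw [h.xy, if_neg]
        rintro rfl
        exact absurd hl (lt_irrefl _)) hw
    · obtain ⟨a, ha, hax, hay, -, hayj, -⟩ := hz i j hij
      exact hneg' (rule a ha (y j) (x i) _ _ hayj hax)
  -- the complement
  have h0 : ∀ v, (∀ j, polar Q (x j) v = 0) → (∀ j, polar Q (y j) v = 0) → g' v = v := by
    intro v hv hv'
    have hw : g' v - v ∈ Wl F x k := hg.2 v hv
    refine sub_eq_zero.1 (h.Wl_eq_zero hw fun j => ?_)
    obtain ⟨l, hl, -⟩ := hex j j
    obtain ⟨a, ha, -, hay, -, -, ha0⟩ := hz j l (Ne.symm hl)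
    exact hneg (rule a ha (y j) v _ _ hay (ha0 v hv hv'))
  -- the vectors `y i`
  have hy : ∀ i, g' (y i) = y i := by
    intro i
    have h1 : ∀ j, polar Q (x j) (g' (y i) - y i) = 0 := by
      intro j
      rw [polar_sub_right, sub_eq_zero]
      conv_lhs => rw [← hx j]
      exact polar_map hgO _ _
    have h3 : ∀ v, (∀ j, polar Q (x j) v = 0) → (∀ j, polar Q (y j) v = 0) → polar Q v (g' (y i) - y i) = 0 := by
      intro v hv hv'
      rw [polar_sub_right, sub_eq_zero]
      conv_lhs => rw [← h0 v hv hv']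
      exact polar_map hgO _ _
    have h4 : ∀ j, j ≠ i → polar Q (y j) (g' (y i) - y i) = 0 := by
      intro j hj
      obtain ⟨a, ha, -, hay, -, hayj, -⟩ := hz i j (Ne.symm hj)
      exact hneg' (rule a ha (y j) (y i) _ _ hayj hay)
    set c := polar Q (y i) (g' (y i) - y i) with hc
    have h5 : g' (y i) - y i - c • x i = 0 := by
      refine h.eq_zero hG.nondeg (fun j => ?_) (fun j => ?_) fun v hv hv' => ?_
      · rw [polar_sub_right, h1, polar_smul_right, h.xx, smul_zero, sub_zero]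
      · rw [polar_sub_right, polar_smul_right, polar_comm Q (y j) (x i), h.xy]
        by_cases hj : j = i
        · subst hj
          rw [if_pos rfl, ← hc, smul_eq_mul, mul_one, sub_self]
        · rw [h4 j hj, if_neg (Ne.symm hj), smul_zero, sub_zero]
      · rw [polar_sub_right, h3 v hv hv', polar_smul_right, polar_comm, hv, smul_zero, sub_zero]
    have h6 : g' (y i) = y i + c • x i := by
      have := sub_eq_zero.1 h5
      rw [← this]; abel
    have h7 : Q (g' (y i)) = Q (y i) := hgO (y i)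
    rw [h6, Q_add, QuadraticMap.map_smul, h.qx, h.qy, polar_smul_right, polar_comm, h.xy, if_pos rfl, smul_zero,
      smul_eq_mul, mul_one] at h7
    have h8 : c = 0 := by linear_combination h7
    rw [h6, h8, zero_smul, add_zero]
  exact Subtype.ext (h.ext hx hy h0)

/-! ### the conclusion -/

section inv

open Cfsg.Agent.H892.EP

theorem inv2_E [Finite F] [FiniteDimensional F V] {p : ℕ} [Fact p.Prime] [CharP F p] (hG : Good Q)
    (h2 : (2 : F) ≠ 0) (h7 : 7 ≤ finrank F V) : Inv2 p ↥(E Q) := by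
  obtain ⟨U⟩ : Nonempty (Sylow p ↥(E Q)) := inferInstance
  obtain ⟨x, y, h, hU⟩ := exists_sylow (k := (finrank F V - 1) / 2) hG.nondeg h2 U (by omega) (by omega)
  refine ⟨U, AA Q x y, h.AA_isPGroup, ?_, fun u hu hc => ?_⟩
  · rw [hU]
    exact AA_le_normalizer
  · rw [hU] at hu
    exact h.centralizer_eq_one hG h2 (by omega) hu hc

universe u v

/-- passing to quotients by kernels of exponent 2 -/
theorem Inv2.of_surj {G : Type u} {L : Type v} [Group G] [Group L] [Finite G] {r : ℕ} [Fact r.Prime] (hr : r ≠ 2)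
    (h : Inv2 r G) (φ : G →* L) (hφ : Function.Surjective φ) (hk : ∀ g, φ g = 1 → g * g = 1) : Inv2 r L := by
  obtain ⟨U, A, hA, hn, hfix⟩ := h
  refine ⟨U.mapSurjective hφ, A.map φ, hA.map _, ?_, ?_⟩
  · rintro _ ⟨a, ha, rfl⟩
    have h1 := hn ha
    rw [Subgroup.mem_normalizer_iff] at h1 ⊢
    intro l
    constructor
    · rintro ⟨u, hu, rfl⟩
      exact ⟨a * u * a⁻¹, (h1 u).1 hu, by rw [map_mul, map_mul, map_inv]⟩
    · rintro ⟨u, hu, hul⟩
      refine ⟨a⁻¹ * u * a, ?_, ?_⟩
      · apply (h1 _).2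
        have h3 : a * (a⁻¹ * u * a) * a⁻¹ = u := by group
        rw [h3]
        exact hu
      · rw [map_mul, map_mul, map_inv, hul]
        group
  · rintro _ ⟨u, hu, rfl⟩ hc
    have h1 : u = 1 := by
      refine hfix u hu fun a ha => ?_
      have h3 := hc (φ a) ⟨a, ha, rfl⟩
      have h4 : φ (a * u * a⁻¹ * u⁻¹) = 1 := by
        rw [map_mul, map_mul, map_mul, map_inv, map_inv, h3]
        group
      have h5 : a * u * a⁻¹ * u⁻¹ ∈ (U : Subgroup G) :=
        (U : Subgroup G).mul_mem ((Subgroup.mem_normalizer_iff.1 (hn ha) u).1 hu) ((U : Subgroup G).inv_mem hu)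
      have h6 := hk _ h4
      obtain ⟨j, hj⟩ := U.isPGroup' ⟨_, h5⟩
      have hj' : (a * u * a⁻¹ * u⁻¹) ^ r ^ j = 1 := congrArg Subtype.val hj
      have h7 : a * u * a⁻¹ * u⁻¹ = 1 := by
        rw [← orderOf_eq_one_iff]
        have h8 : orderOf (a * u * a⁻¹ * u⁻¹) ∣ 2 := orderOf_dvd_of_pow_eq_one (by rw [pow_two]; exact h6)
        have h9 : orderOf (a * u * a⁻¹ * u⁻¹) ∣ r ^ j := orderOf_dvd_of_pow_eq_one hj'
        have h10 : Nat.Coprime 2 (r ^ j) := Nat.Coprime.pow_right _
          ((Nat.coprime_primes Nat.prime_two Fact.out).2 (Ne.symm hr))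
        exact Nat.eq_one_of_dvd_coprimes h10 h8 h9
      calc a * u = (a * u * a⁻¹ * u⁻¹) * (u * a) := by group
        _ = u * a := by rw [h7, one_mul]
    rw [h1, map_one]

open Cfsg.Agent.AutOrth.Main Cfsg.Agent.LieClassical.OrthSimple Cfsg.Agent.ClassicalGeometry.OrthAut1
open Cfsg.Agent.LieClassical.QuadForms Cfsg

theorem mul_self_of_center {F V : Type*} [Field F] [AddCommGroup V] [Module F V] {Q : QuadraticForm F V}
    (hG : Good Q) {z : ↥(E Q)} (hz : z ∈ Subgroup.center ↥(E Q)) : z * z = 1 := by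
  obtain ⟨c, hc⟩ := center_scalar hG hz
  obtain ⟨a, b, hab⟩ := hG.exists_hyp
  have h1 : Q (a + b) = 1 := by
    rw [Q_add, hab.left, hab.right, hab.pair]
    ring
  have h2 : Q ((z : V ≃ₗ[F] V) (a + b)) = Q (a + b) := E_le_O z.2 _
  rw [hc, QuadraticMap.map_smul, h1, smul_eq_mul, mul_one] at h2
  apply Subtype.ext
  apply LinearEquiv.ext
  intro v
  show (z : V ≃ₗ[F] V) ((z : V ≃ₗ[F] V) v) = v
  rw [hc, hc, smul_smul, h2, one_smul]

theorem parU_POmega {F : Type*} [Field F] [Finite F] {ι : Type} [Fintype ι] [DecidableEq ι]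
    {Q : QuadraticForm F (ι → F)} {p : ℕ} [Fact p.Prime] [CharP F p] (hG : Good Q) (hp : p ≠ 2)
    (h7 : 7 ≤ Fintype.card ι) {Q' : (ι → F) → F} (hQ : ⇑Q = Q') : ParU p (Cfsg.POmega F Q') := by
  subst hQ
  have h2 : (2 : F) ≠ 0 := by
    intro h
    have h1 : ((2 : ℕ) : F) = 0 := by exact_mod_cast h
    rw [CharP.cast_eq_zero_iff F p, Nat.prime_dvd_prime_iff_eq Fact.out Nat.prime_two] at h1
    exact hp h1
  have hfV : Finite (ι → F) := inferInstance
  have hfin : Finite ((ι → F) ≃ₗ[F] (ι → F)) := DFunLike.finite _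
  have hfO : Finite (Cfsg.POmega F (⇑Q)) := inferInstance
  refine parU_of_inv2 hp (Inv2.of_surj hp (inv2_E hG h2 (by rwa [Module.finrank_fintype_fun_eq_card]))
    (((pe hG).symm : P Q →* Cfsg.POmega F (⇑Q)).comp (QuotientGroup.mk' (Subgroup.center ↥(E Q))))
    ((pe hG).symm.surjective.comp (QuotientGroup.mk'_surjective _)) fun g hg => ?_)
  apply mul_self_of_center hG
  rw [← QuotientGroup.eq_one_iff]
  exact (pe hG).symm.injective (hg.trans (map_one (pe hG).symm).symm)

section rows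

variable {F : Type} [Field F] [Fintype F] {r : ℕ} [Fact r.Prime] [CharP F r]

theorem pu_oodd (hr : r ≠ 2) {m : ℕ} (hm : 3 ≤ m) : ParU r (POmega F (quadFormOdd m F)) := by
  have h2 : (2 : F) ≠ 0 := by
    intro h
    have h1 : ((2 : ℕ) : F) = 0 := by exact_mod_cast h
    rw [CharP.cast_eq_zero_iff F r, Nat.prime_dvd_prime_iff_eq Fact.out Nat.prime_two] at h1
    exact hr h1
  exact parU_POmega (good_odd (by omega) h2) hr (by simp; omega) (coe_oddForm m)

theorem pu_oplus (hr : r ≠ 2) {m : ℕ} (hm : 4 ≤ m) : ParU r (POmega F (quadFormPlus m F)) :=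
  parU_POmega (good_plus (by omega)) hr (by simp; omega) (coe_plusForm m)

theorem pu_ominus (hr : r ≠ 2) {m : ℕ} (hm : 4 ≤ m) (a b : F)
    (hab : ∀ z₁ z₂ : F, z₁ ^ 2 + a * z₁ * z₂ + b * z₂ ^ 2 = 0 → z₁ = 0 ∧ z₂ = 0) :
    ParU r (POmega F (quadFormMinus (m - 1) F a b)) :=
  parU_POmega (good_minus (by omega) hab) hr (by simp; omega) (coe_minusForm (m - 1) a b)

end rows

end inv

end Cfsg.Agent.H485.EP
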